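import Cfsg.Agent.Lib.Fi23P.Perm

/-!
The transpositions as points, needing only the action on 31671 points.
-/

set_option autoImplicit false
set_option maxRecDepth 100000

namespace CfsgLib.Fi23P.Tri

open CfsgLib.PresCert Cfsg.Spor

attribute [local irreducible] relShort levels wordA rootWords baseL

/-- A conjugate is the conjugate by a root word, conjugated by the stabiliser. -/
theorem conj_form (m : Cfsg.Spor.Fi23) : ∃ k, k < 3 ∧ ∃ h ∈ subH,
    m * eltT * m⁻¹ = h * (act fiGen (rootWords.getD k []) * eltT * (act fiGen (rootWords.getD k []))⁻¹) * h⁻¹ ∧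
      (k = 0 → m ∈ subH) := by
  set p := phi m ⟨0, zero_lt⟩ with hp
  set k := forest.lab p.val with hk
  have hk3 : k < 3 := forest_zero.1 ▸ (forest_ok.spec p.isLt).2.1
  obtain ⟨h, hh, e⟩ := forest_ok.reach realised p
  have hr := root_words.1
  simp only [List.all_eq_true, List.mem_range, Bool.and_eq_true, Nat.beq_eq, Nat.blt_eq] at hr
  have e2 : phi (act fiGen (rootWords.getD k [])) ⟨0, zero_lt⟩ =
      ⟨forest.roots.getD k 0, (forest_ok.root (forest_ok.spec p.isLt).2.1).1⟩ :=
    Fin.ext (by rw [realised.act_apply (hr k hk3).2]; exact (hr k hk3).1)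
  rw [← e2, ← Equiv.Perm.mul_apply, ← map_mul] at e
  have hmem : (h * act fiGen (rootWords.getD k []))⁻¹ * m ∈ subH := by
    rw [subH_eq]
    intro i hi
    have hi0 : i = ⟨0, zero_lt⟩ := Fin.ext (List.mem_singleton.1 hi)
    subst hi0
    rw [map_mul, Equiv.Perm.mul_apply, map_inv, Equiv.Perm.inv_def, Equiv.symm_apply_eq]
    exact e.symm
  have hc := t_central hmem
  refine ⟨k, hk3, h, hh, ?_, fun h0 => ?_⟩
  · set n := (h * act fiGen (rootWords.getD k []))⁻¹ * m with hn
    have hm : m = h * act fiGen (rootWords.getD k []) * n := by rw [hn]; group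
    rw [hm]
    calc h * act fiGen (rootWords.getD k []) * n * eltT * (h * act fiGen (rootWords.getD k []) * n)⁻¹
        = h * act fiGen (rootWords.getD k []) * (n * eltT) * n⁻¹ *
            (h * act fiGen (rootWords.getD k []))⁻¹ := by group
      _ = h * act fiGen (rootWords.getD k []) * (eltT * n) * n⁻¹ *
            (h * act fiGen (rootWords.getD k []))⁻¹ := by rw [hc]
      _ = _ := by group
  · rw [h0, show act fiGen (rootWords.getD 0 []) = (1 : Cfsg.Spor.Fi23) by
      rw [show rootWords.getD 0 [] = [] by decide +kernel, act_nil], mul_one] at hmem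
    have := Subgroup.mul_mem _ hh hmem
    rwa [mul_inv_cancel_left] at this

theorem prod_word {k : ℕ} (hk : k < 3) : act fiGen (prodWord k) =
    eltT * (act fiGen (rootWords.getD k []) * eltT * (act fiGen (rootWords.getD k []))⁻¹) := by
  have hr := root_words.1
  simp only [List.all_eq_true, List.mem_range, Bool.and_eq_true, Nat.blt_eq] at hr
  rw [prodWord, act_append, act_append, act_append, act_reverse fiGen_sq (hr k hk).2]
  simp only [eltT, mul_assoc]

theorem centralizer_t : Subgroup.centralizer ({eltT} : Set Cfsg.Spor.Fi23) = subH := by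
  refine le_antisymm (fun m hm => ?_) fun m hm =>
    Subgroup.mem_centralizer_singleton_iff.2 (t_central hm).symm
  obtain ⟨k, hk, h, hh, e, h0⟩ := conj_form m
  rw [Subgroup.mem_centralizer_singleton_iff] at hm
  have e2 : act fiGen (rootWords.getD k []) * eltT * (act fiGen (rootWords.getD k []))⁻¹ = eltT := by
    have e3 : m * eltT * m⁻¹ = eltT := by rw [hm]; group
    rw [e3, eq_mul_inv_iff_mul_eq] at e
    calc _ = h⁻¹ * (h * (act fiGen (rootWords.getD k []) * eltT * (act fiGen (rootWords.getD k []))⁻¹)) := by group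
      _ = h⁻¹ * (eltT * h) := by rw [← e]
      _ = eltT := by rw [t_central hh]; group
  have hbad : ∀ j, j = 1 ∨ j = 2 → k ≠ j := by
    rintro j hj rfl
    have h1 : act fiGen (prodWord k) = act fiGen ([] : List ℕ) := by
      rw [prod_word hk, e2, t_sq, act_nil]
    have hr := root_words.2.2.2
    have hs : sameBase (prodWord k) [] = true := by
      simp only [sameBase, Bool.and_eq_true, List.all_eq_true, Nat.beq_eq, Nat.blt_eq]
      have hw : ∀ g ∈ prodWord k, g < 10 := by rcases hj with rfl | rfl <;> decide +kernel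
      refine ⟨⟨fun b hb => ?_, hw⟩, fun g hg => absurd hg List.not_mem_nil⟩
      have hb2 : b < tab.n := by
        have h : baseL.all (fun b => Nat.blt b tab.n) = true := by decide +kernel
        exact Nat.blt_eq.mp (List.all_eq_true.1 h b hb)
      have := congrArg (fun z => ((phi z ⟨b, hb2⟩ : Fin tab.n) : ℕ)) h1
      simpa [realised.act_apply hw, act_nil, Fast.Tab.walk] using this
    rcases hj with rfl | rfl <;> simp [hs] at hr
  exact h0 (by have := hbad 1 (Or.inl rfl); have := hbad 2 (Or.inr rfl); omega)

/-- The first point. -/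
def origin : Fin tab.n := ⟨0, zero_lt⟩

theorem exists_toPoint (q : Fin tab.n) : ∃ m, phi m origin = q :=
  haveI := card_fi.1
  (Fast.card_trans (M := Cfsg.Spor.Fi23) (φ := phi) realised zero_lt tree_ok).1 origin q

/-- An element carrying the first point to a given one. -/
noncomputable def toPoint (q : Fin tab.n) : Cfsg.Spor.Fi23 :=
  (exists_toPoint q).choose

theorem phi_toPoint (q : Fin tab.n) : phi (toPoint q) origin = q :=
  (exists_toPoint q).choose_spec

theorem mem_subH_iff {m : Cfsg.Spor.Fi23} : m ∈ subH ↔ phi m origin = origin := by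
  rw [subH_eq]
  refine ⟨fun h => h origin (List.mem_singleton.2 rfl), fun h i hi => ?_⟩
  obtain rfl : i = origin := Fin.ext (List.mem_singleton.1 hi)
  exact h

/-- The transposition of a point. -/
noncomputable def refl (q : Fin tab.n) : Cfsg.Spor.Fi23 := toPoint q * eltT * (toPoint q)⁻¹

theorem refl_of {m : Cfsg.Spor.Fi23} {q : Fin tab.n} (h : phi m origin = q) :
    refl q = m * eltT * m⁻¹ := by
  have hm : m⁻¹ * toPoint q ∈ subH := by
    rw [mem_subH_iff, map_mul, Equiv.Perm.mul_apply, phi_toPoint, map_inv, Equiv.Perm.inv_def,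
      Equiv.symm_apply_eq, h]
  have e := t_central hm
  calc toPoint q * eltT * (toPoint q)⁻¹
      = m * (m⁻¹ * toPoint q * eltT) * (m⁻¹ * toPoint q)⁻¹ * m⁻¹ := by group
    _ = m * (eltT * (m⁻¹ * toPoint q)) * (m⁻¹ * toPoint q)⁻¹ * m⁻¹ := by rw [e]
    _ = _ := by group

theorem refl_conj (h : Cfsg.Spor.Fi23) (q : Fin tab.n) :
    h * refl q * h⁻¹ = refl (phi h q) := by
  rw [refl_of (m := h * toPoint q) (q := phi h q)
    (by rw [map_mul, Equiv.Perm.mul_apply, phi_toPoint]), refl]
  group

theorem refl_injective : Function.Injective refl := by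
  intro q r h
  have hm : (toPoint r)⁻¹ * toPoint q ∈ Subgroup.centralizer ({eltT} : Set Cfsg.Spor.Fi23) := by
    rw [Subgroup.mem_centralizer_singleton_iff]
    calc (toPoint r)⁻¹ * toPoint q * eltT
        = (toPoint r)⁻¹ * refl q * toPoint q := by rw [refl]; group
      _ = (toPoint r)⁻¹ * refl r * toPoint q := by rw [h]
      _ = _ := by rw [refl]; group
  rw [centralizer_t, mem_subH_iff, map_mul, Equiv.Perm.mul_apply, phi_toPoint, map_inv,
    Equiv.Perm.inv_def, Equiv.symm_apply_eq, phi_toPoint] at hm
  exact hm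

theorem refl_origin : refl origin = eltT := by
  rw [refl_of (m := 1) (q := origin) (by simp)]
  group

theorem commute_refl {h : Cfsg.Spor.Fi23} {q : Fin tab.n} :
    h * refl q = refl q * h ↔ phi h q = q := by
  have key : h * refl q = refl q * h ↔ h * refl q * h⁻¹ = refl q := by
    rw [mul_inv_eq_iff_eq_mul]
  rw [key, refl_conj]
  exact refl_injective.eq_iff

theorem refl_sq (q : Fin tab.n) : refl q * refl q = 1 := by
  rw [refl]
  calc toPoint q * eltT * (toPoint q)⁻¹ * (toPoint q * eltT * (toPoint q)⁻¹)
      = toPoint q * (eltT * eltT) * (toPoint q)⁻¹ := by group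
    _ = 1 := by rw [t_sq]; group

theorem refl_ne_one (q : Fin tab.n) : refl q ≠ 1 := by
  intro h
  apply t_ne_one
  calc eltT = (toPoint q)⁻¹ * refl q * toPoint q := by rw [refl]; group
    _ = 1 := by rw [h]; group

theorem refl_fix_self (q : Fin tab.n) : phi (refl q) q = q := commute_refl.1 rfl

theorem refl_fix_comm {p q : Fin tab.n} : phi (refl p) q = q ↔ phi (refl q) p = p := by
  rw [← commute_refl, ← commute_refl]
  exact eq_comm

/-- The point of the first generator. -/
noncomputable def ptA : ℕ := tab.walk 0 wordA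

/-- The word of a reflection by a conjugating word. -/
def reflPath (w : List ℕ) : List ℕ := w.reverse ++ [0] ++ w

/-- A point, a word for its transposition and a conjugating word. -/
noncomputable def pointOk (e : ℕ × List ℕ × List ℕ) : Bool :=
  Nat.beq (tab.walk ptA e.2.2) e.1 && e.2.2.all (fun g => Nat.blt g 10) &&
    sameBase e.2.1 (reflPath e.2.2)

theorem wordA_letters : wordA.all (fun g => Nat.blt g 10) = true := by decide +kernel

theorem act_point {e : ℕ × List ℕ × List ℕ} (h : pointOk e = true) :
    ∃ hq : e.1 < tab.n, act fiGen e.2.1 = refl ⟨e.1, hq⟩ ∧ ∀ g ∈ e.2.1, g < 10 := by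
  simp only [pointOk, Bool.and_eq_true, Nat.beq_eq, List.all_eq_true, Nat.blt_eq] at h
  obtain ⟨⟨hw, hl⟩, hb⟩ := h
  have hA : ∀ g ∈ wordA, g < 10 := fun g hg => by
    simpa [Nat.blt_eq] using List.all_eq_true.1 wordA_letters g hg
  have hpt : ptA < tab.n := walk_lt hA zero_lt
  have hlt : e.1 < tab.n := hw ▸ walk_lt hl hpt
  refine ⟨hlt, ?_, ?_⟩
  · rw [eq_of_base hb, reflPath, act_append, act_append, act_reverse fiGen_sq hl, act_cons,
      act_nil, one_mul, first_conj]
    rw [refl_of (m := act fiGen e.2.2 * act fiGen wordA) (q := ⟨e.1, hlt⟩) (Fin.ext (by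
      rw [map_mul, Equiv.Perm.mul_apply, realised.act_apply hl, realised.act_apply hA]
      exact hw))]
    group
  · simp only [sameBase, Bool.and_eq_true, List.all_eq_true, Nat.blt_eq] at hb
    exact hb.1.2

/-- The first generator is a transposition of a point. -/
theorem gen_zero : fiGen 0 = refl (phi (act fiGen wordA) origin) := by
  rw [← refl_conj, refl_origin, first_conj]

end CfsgLib.Fi23P.Tri
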