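import Cfsg.Agent.Lib.FischerPair.RefSeven
import Cfsg.Agent.Lib.Classical.QuadPOmega
import Cfsg.Agent.Lib.Classical.QuadSiegel

/-!
The hyperbolic form in eight variables over the field with three elements, on `Fin 8`, and the group
generated by its reflections of norm one.
-/

set_option autoImplicit false
set_option maxRecDepth 4000

namespace CfsgLib.FischerPair.Plus8

open Cfsg CfsgLib.Classical CfsgLib.Classical.SylowTwo CfsgLib.SporMisc
open scoped commutatorElement

/-- The coordinate space. -/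
abbrev V := Fin 8 → ZMod 3

/-- The two halves of the coordinates. -/
def split8 : Fin 4 ⊕ Fin 4 ≃ Fin 8 := finSumFinEquiv

/-- The form `x₀x₄ + x₁x₅ + x₂x₆ + x₃x₇`. -/
noncomputable def Q8 : QuadraticForm (ZMod 3) V :=
  (qPlus 4 (ZMod 3)).comp (LinearEquiv.funCongrLeft (ZMod 3) (ZMod 3) split8).toLinearMap

theorem Q8_apply (x : V) : Q8 x = x 0 * x 4 + x 1 * x 5 + x 2 * x 6 + x 3 * x 7 := by
  have h : Q8 x = Cfsg.quadFormPlus 4 (ZMod 3) (fun i => x (split8 i)) := by
    rw [← coe_qPlus]
    rfl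
  rw [h, Cfsg.quadFormPlus, Fin.sum_univ_four]
  rfl

theorem polar8 (x y : V) : QuadraticMap.polar Q8 x y =
    x 0 * y 4 + x 1 * y 5 + x 2 * y 6 + x 3 * y 7 + (x 4 * y 0 + x 5 * y 1 + x 6 * y 2 + x 7 * y 3) := by
  simp only [QuadraticMap.polar, Q8_apply, Pi.add_apply]
  ring

theorem nondeg : (QuadraticMap.polarBilin Q8).Nondegenerate := by
  refine PolarNondeg.nondegenerate fun v hv => funext fun i => ?_
  have h := hv (Pi.single (i + 4) 1)
  rw [polar8] at h
  fin_cases i <;> simpa [Pi.single_apply] using h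

/-- The group generated by the reflections of norm one. -/
noncomputable abbrev W8 : Subgroup (isometryGroup (ZMod 3) ⇑Q8) := reflectionSubgroup (⇑Q8) 1

theorem index_two : W8.index = 2 := RefThree.index_two Q8 nondeg one_ne_zero (by norm_num)

/-- The commutator subgroup of the isometry group. -/
noncomputable abbrev O8 : Subgroup (isometryGroup (ZMod 3) ⇑Q8) := commutator (isometryGroup (ZMod 3) ⇑Q8)

theorem perfect : ⁅O8, O8⁆ = O8 := by
  have hp : PolarNondeg Q8 := polarNondeg_of_nondegenerate nondeg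
  have hn : 5 ≤ Module.finrank (ZMod 3) V := by rw [Module.finrank_pi]; simp
  have hmap : O8.map (isoEquiv Q8).toMonoidHom = eichGroup Q8 := by
    rw [eichGroup_eq_commutator Q8 hp hn]
    exact map_commutator_equiv (isoEquiv Q8)
  apply Subgroup.map_injective (f := (isoEquiv Q8).toMonoidHom) (isoEquiv Q8).injective
  rw [Subgroup.map_commutator, hmap, eichGroup_perfect Q8 hp hn]

theorem O8_le : O8 ≤ W8 := by
  haveI : W8.Normal := Subgroup.normal_of_index_eq_two index_two
  haveI : IsMulCommutative (isometryGroup (ZMod 3) ⇑Q8 ⧸ W8) := by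
    have h2 : Nat.card (isometryGroup (ZMod 3) ⇑Q8 ⧸ W8) = 2 := index_two
    haveI : Fact (Nat.Prime 2) := ⟨Nat.prime_two⟩
    haveI := isCyclic_of_prime_card h2
    exact IsCyclic.commutative
  show commutator _ ≤ W8
  rw [commutator_def, Subgroup.commutator_le]
  intro p _ q _
  rw [← QuotientGroup.eq_one_iff (N := W8), ← QuotientGroup.mk'_apply, map_commutatorElement,
    commutatorElement_eq_one_iff_mul_comm]
  exact mul_comm' _ _

theorem commutator_W8 : ⁅W8, W8⁆ = O8 := by
  refine le_antisymm ?_ ?_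
  · show _ ≤ commutator _
    rw [commutator_def]; exact Subgroup.commutator_mono le_top le_top
  · calc O8 = ⁅O8, O8⁆ := perfect.symm
      _ ≤ ⁅W8, W8⁆ := Subgroup.commutator_mono O8_le O8_le

/-- The determinant. -/
noncomputable def det8 : isometryGroup (ZMod 3) ⇑Q8 →* ZMod 3 where
  toFun g := ((g : GL (Fin 8) (ZMod 3)) : Matrix (Fin 8) (Fin 8) (ZMod 3)).det
  map_one' := by simp
  map_mul' g h := by simp [Matrix.det_mul]

theorem det8_apply (g : isometryGroup (ZMod 3) ⇑Q8) :
    det8 g = ((g : GL (Fin 8) (ZMod 3)) : Matrix (Fin 8) (Fin 8) (ZMod 3)).det := rfl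

theorem det8_reflect {v : V} (hv : Q8 v ≠ 0) : det8 (reflect Q8 v hv) = -1 := by
  rw [det8_apply, reflect_coe, det_reflectionMatrix Q8 hv]

theorem det8_O8 {g : isometryGroup (ZMod 3) ⇑Q8} (h : g ∈ O8) : det8 g = 1 := by
  have hu : det8.toHomUnits g = 1 := by
    refine (MonoidHom.mem_ker).1 ((?_ : O8 ≤ det8.toHomUnits.ker) h)
    exact Abelianization.commutator_subset_ker _
  simpa using congrArg Units.val hu

theorem det8_neg {ε : isometryGroup (ZMod 3) ⇑Q8} (hε : ∀ x, isoApply ε x = -x) : det8 ε = 1 := by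
  have h : ((ε : GL (Fin 8) (ZMod 3)) : Matrix (Fin 8) (Fin 8) (ZMod 3)) = -1 :=
    Matrix.ext_of_mulVec_single fun i => by rw [Matrix.neg_mulVec, Matrix.one_mulVec]; exact hε _
  rw [det8_apply, h, Matrix.det_neg, Matrix.det_one, Fintype.card_fin]
  decide

/-- The isometry group is that of the standard hyperbolic form. -/
noncomputable def stdEquiv : isometryGroup (ZMod 3) ⇑Q8 ≃* isometryGroup (ZMod 3) ⇑(qPlus 4 (ZMod 3)) :=
  ((isoEquiv Q8).trans (qAutSimilar (LinearEquiv.funCongrLeft (ZMod 3) (ZMod 3) split8)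
    (t := (1 : ZMod 3)) one_ne_zero fun v => (one_mul (Q8 v)).symm)).trans (isoEquiv (qPlus 4 (ZMod 3))).symm

/-- A surjection from the commutator subgroup onto the simple group, its kernel being the centre. -/
theorem exists_quot : Nonempty (↥O8 ⧸ Subgroup.center ↥O8 ≃* POmega (ZMod 3) (quadFormPlus 4 (ZMod 3))) := by
  rw [← coe_qPlus]
  let d : ↥O8 ≃* ↥(Omega (ZMod 3) ⇑(qPlus 4 (ZMod 3))) :=
    (stdEquiv.subgroupMap O8).trans (MulEquiv.subgroupCongr (map_commutator_equiv stdEquiv))
  exact ⟨QuotientGroup.congr _ _ d (Subgroup.ext fun z => by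
    simp only [Subgroup.mem_map, Subgroup.mem_center_iff]
    constructor
    · rintro ⟨w, hw, rfl⟩ y
      exact d.symm.injective (by simpa using hw (d.symm y))
    · exact fun h => ⟨d.symm z, fun y => d.injective (by simpa using h (d y)), by simp⟩)⟩

theorem simple_POmega : IsSimpleGroup (POmega (ZMod 3) (quadFormPlus 4 (ZMod 3))) := by
  rw [← coe_qPlus]
  exact isSimpleGroup_POmega _ (polarNondeg_qPlus 4) (by simp)

theorem perfect_POmega : Group.IsPerfect (POmega (ZMod 3) (quadFormPlus 4 (ZMod 3))) := by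
  obtain ⟨e⟩ := exists_quot
  haveI : Group.IsPerfect ↥O8 := ⟨Subgroup.map_injective O8.subtype_injective (by
    rw [commutator_def, Subgroup.map_commutator, ← MonoidHom.range_eq_map, Subgroup.range_subtype, perfect])⟩
  exact Group.IsPerfect.ofSurjective (f := e.toMonoidHom.comp (QuotientGroup.mk' _))
    (e.surjective.comp (QuotientGroup.mk'_surjective _))

end CfsgLib.FischerPair.Plus8
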