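import Cfsg.Agent.Lib.FischerPair.M23Tri.Form
import Cfsg.Agent.Lib.FischerPair.RefInvol

/-!
The stabiliser of a vector of norm one in the group of reflections of norm one in eight variables is the
product of a group of order two and the simple orthogonal group in seven variables.
-/

set_option autoImplicit false
set_option maxRecDepth 4000

namespace CfsgLib.FischerPair.Plus8

open Cfsg CfsgLib.Classical CfsgLib.SporMisc Matrix

/-- The coordinate space of the hyperplane. -/
abbrev U := Fin 7 → ZMod 3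

/-- The vector. -/
def vv : V := ![0, 1, 1, 2, 2, 0, 0, 2]

/-- An orthogonal basis of its hyperplane, as columns. -/
def baseM : Matrix (Fin 8) (Fin 7) (ZMod 3) :=
  !![0, 0, 0, 0, 1, 1, 0;
    0, 0, 1, 1, 0, 0, 1;
    0, 0, 0, 0, 0, 0, 1;
    1, 1, 0, 0, 0, 0, 2;
    0, 0, 0, 0, 1, 2, 2;
    0, 0, 1, 2, 0, 0, 0;
    0, 2, 2, 1, 1, 1, 1;
    2, 1, 0, 0, 0, 0, 2]

/-- The coordinates of the projection to the hyperplane. -/
def projM : Matrix (Fin 7) (Fin 8) (ZMod 3) :=
  !![0, 0, 0, 2, 0, 0, 0, 1;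
    0, 0, 1, 2, 0, 0, 0, 2;
    0, 2, 1, 0, 0, 2, 0, 0;
    0, 2, 1, 0, 0, 1, 0, 0;
    2, 0, 2, 0, 2, 0, 0, 0;
    2, 0, 1, 0, 1, 0, 0, 0;
    2, 0, 1, 2, 0, 1, 1, 2]

/-- The coefficient of the vector. -/
def coefV : V := ![1, 0, 0, 1, 0, 2, 2, 1]

theorem proj_base : projM * baseM = 1 := by decide +kernel

theorem proj_vv : projM *ᵥ vv = 0 := by decide +kernel

theorem coef_base : coefV ᵥ* baseM = 0 := by decide +kernel

theorem coef_vv : coefV ⬝ᵥ vv = 1 := by decide +kernel

theorem resolution : baseM * projM + vecMulVec vv coefV = 1 := by decide +kernel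

theorem Q8_vv : Q8 vv = 1 := by rw [Q8_apply]; decide +kernel

/-- The coefficient. -/
abbrev coef (x : V) : ZMod 3 := coefV ⬝ᵥ x

theorem proj_base_apply (z : U) : projM *ᵥ (baseM *ᵥ z) = z := by
  rw [mulVec_mulVec, proj_base, one_mulVec]

theorem coef_base_apply (z : U) : coef (baseM *ᵥ z) = 0 := by
  rw [coef, dotProduct_mulVec, coef_base, zero_dotProduct]

theorem decomp (x : V) : x = baseM *ᵥ (projM *ᵥ x) + coef x • vv := by
  have h := congrArg (· *ᵥ x) resolution
  simp only [add_mulVec, one_mulVec, ← mulVec_mulVec, vecMulVec_mulVec, op_smul_eq_smul] at h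
  exact h.symm

theorem base_orth (z : U) : QuadraticMap.polar Q8 (baseM *ᵥ z) vv = 0 := by
  have h : ((QuadraticMap.polarBilin Q8).flip vv) ∘ₗ baseM.mulVecLin = 0 := by
    refine (Pi.basisFun (ZMod 3) (Fin 7)).ext fun j => ?_
    show QuadraticMap.polar Q8 (baseM *ᵥ (Pi.basisFun (ZMod 3) (Fin 7) j)) vv = 0
    rw [Pi.basisFun_apply, mulVec_single_one, polar8]
    revert j
    decide +kernel
  exact LinearMap.congr_fun h z

theorem Q8_decomp (z : U) (a : ZMod 3) : Q8 (baseM *ᵥ z + a • vv) = Q8 (baseM *ᵥ z) + a * a := by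
  rw [qf_map_add_smul, base_orth, Q8_vv, mul_zero, add_zero, mul_one]

/-- The form on the hyperplane. -/
noncomputable def Q7 : QuadraticForm (ZMod 3) U := Q8.comp baseM.mulVecLin

theorem Q7_apply (z : U) : Q7 z = Q8 (baseM *ᵥ z) := rfl

theorem polar7 (z w : U) : QuadraticMap.polar Q7 z w = QuadraticMap.polar Q8 (baseM *ᵥ z) (baseM *ᵥ w) := by
  simp only [QuadraticMap.polar, Q7_apply, mulVec_add]

theorem polar_decomp (x : V) (u : U) :
    QuadraticMap.polar Q8 x (baseM *ᵥ u) = QuadraticMap.polar Q7 (projM *ᵥ x) u := by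
  conv_lhs => rw [decomp x]
  rw [QuadraticMap.polar_add_left, QuadraticMap.polar_smul_left, qf_polar_comm Q8 vv, base_orth, smul_zero,
    add_zero, polar7]

theorem coef_eq (x : V) : QuadraticMap.polar Q8 x vv = 2 * coef x := by
  conv_lhs => rw [decomp x]
  rw [QuadraticMap.polar_add_left, QuadraticMap.polar_smul_left, base_orth, qf_polar_self, Q8_vv, zero_add,
    smul_eq_mul]
  ring

theorem nondeg7 : (QuadraticMap.polarBilin Q7).Nondegenerate := by
  refine PolarNondeg.nondegenerate fun z hz => ?_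
  have h : baseM *ᵥ z = 0 := nondeg.1 _ fun x => by
    show QuadraticMap.polar Q8 (baseM *ᵥ z) x = 0
    rw [qf_polar_comm, polar_decomp, qf_polar_comm]
    exact hz _
  rw [← proj_base_apply z, h, mulVec_zero]

theorem det7 : polarGramDet (⇑Q7) = -1 := by
  have h : (Matrix.of fun i j : Fin 7 => QuadraticMap.polar Q7 (Pi.single i 1) (Pi.single j 1)) =
      Matrix.diagonal ![1, 2, 2, 1, 2, 1, 1] := by
    ext i j
    rw [Matrix.of_apply, polar7, mulVec_single_one, mulVec_single_one, polar8]
    fin_cases i <;> fin_cases j <;> decide +kernel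
  rw [polarGramDet, h, det_diagonal]
  decide +kernel

/-- An isometry of the hyperplane, extended. -/
noncomputable def extend (g : isometryGroup (ZMod 3) ⇑Q7) : isometryGroup (ZMod 3) ⇑Q8 :=
  isoMk (baseM.mulVecLin ∘ₗ ((g : GL (Fin 7) (ZMod 3)) : Matrix (Fin 7) (Fin 7) (ZMod 3)).mulVecLin ∘ₗ
      projM.mulVecLin + (dotProductBilin (ZMod 3) (ZMod 3) coefV).smulRight vv)
    (fun x y h => by
      simp only [LinearMap.add_apply, LinearMap.comp_apply, mulVecLin_apply, LinearMap.smulRight_apply,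
        dotProductBilin_apply_apply] at h
      have h1 := congrArg (projM *ᵥ ·) h
      simp only [mulVec_add, mulVec_smul, proj_base_apply, proj_vv, smul_zero, add_zero] at h1
      have h2 := congrArg (coefV ⬝ᵥ ·) h
      simp only [dotProduct_add, dotProduct_smul, coef_vv, smul_eq_mul, mul_one] at h2
      rw [show coefV ⬝ᵥ baseM *ᵥ _ = 0 from coef_base_apply _,
        show coefV ⬝ᵥ baseM *ᵥ _ = 0 from coef_base_apply _, zero_add, zero_add] at h2
      have h3 : projM *ᵥ x = projM *ᵥ y := by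
        rw [← isoApply_inv_apply g (projM *ᵥ x), show isoApply g (projM *ᵥ x) = isoApply g (projM *ᵥ y) from h1,
          isoApply_inv_apply]
      rw [decomp x, decomp y, h3, coef, h2])
    fun x => by
      simp only [LinearMap.add_apply, LinearMap.comp_apply, mulVecLin_apply, LinearMap.smulRight_apply,
        dotProductBilin_apply_apply]
      rw [Q8_decomp, ← Q7_apply, show Q7 _ = Q7 (projM *ᵥ x) from isoApply_Q g _, Q7_apply, ← Q8_decomp]
      exact congrArg Q8 (decomp x).symm

theorem extend_apply (g : isometryGroup (ZMod 3) ⇑Q7) (x : V) :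
    isoApply (extend g) x = baseM *ᵥ isoApply g (projM *ᵥ x) + coef x • vv :=
  (isoMk_apply _ _ _ x).trans rfl

theorem extend_vv (g : isometryGroup (ZMod 3) ⇑Q7) : isoApply (extend g) vv = vv := by
  rw [extend_apply, proj_vv, isoApply, mulVec_zero, mulVec_zero, coef, coef_vv, one_smul, zero_add]

theorem proj_extend (g : isometryGroup (ZMod 3) ⇑Q7) (x : V) :
    projM *ᵥ isoApply (extend g) x = isoApply g (projM *ᵥ x) := by
  rw [extend_apply, mulVec_add, mulVec_smul, proj_vv, smul_zero, add_zero, proj_base_apply]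

theorem coef_extend (g : isometryGroup (ZMod 3) ⇑Q7) (x : V) : coef (isoApply (extend g) x) = coef x := by
  rw [extend_apply, coef, dotProduct_add, dotProduct_smul, coef_vv, smul_eq_mul, mul_one]
  rw [show coefV ⬝ᵥ baseM *ᵥ _ = 0 from coef_base_apply _, zero_add]

/-- The extension as a homomorphism. -/
noncomputable def extendHom : isometryGroup (ZMod 3) ⇑Q7 →* isometryGroup (ZMod 3) ⇑Q8 :=
  MonoidHom.mk' extend fun g h => iso_ext fun x => by
    rw [isoApply_mul, extend_apply (g * h), extend_apply g, proj_extend, coef_extend, isoApply_mul]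

theorem extendHom_injective : Function.Injective extendHom := by
  intro g h e
  refine iso_ext fun z => ?_
  have := congrArg (fun k => projM *ᵥ isoApply k (baseM *ᵥ z)) e
  simpa only [show ∀ k, extendHom k = extend k from fun _ => rfl, proj_extend, proj_base_apply] using this

theorem extend_reflect {u : U} (hu : Q7 u ≠ 0) :
    extend (reflect Q7 u hu) = reflect Q8 (baseM *ᵥ u) (show Q8 (baseM *ᵥ u) ≠ 0 from Q7_apply u ▸ hu) := by
  refine iso_ext fun x => ?_
  rw [extend_apply, reflect_apply, reflect_apply, polar_decomp, mulVec_sub, mulVec_smul, Q7_apply]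
  conv_rhs => arg 1; rw [decomp x]
  abel

/-- The group generated by the reflections of norm one in the hyperplane. -/
noncomputable abbrev W7 : Subgroup (isometryGroup (ZMod 3) ⇑Q7) := reflectionSubgroup (⇑Q7) 1

theorem extend_mem {g : isometryGroup (ZMod 3) ⇑Q7} (hg : g ∈ W7) : extend g ∈ W8 := by
  have hle : W7 ≤ W8.comap extendHom := by
    refine (Subgroup.closure_le _).2 ?_
    rintro r ⟨u, hu, hr⟩
    have hu' : Q7 u ≠ 0 := by rw [hu]; exact one_ne_zero
    have e : r = reflect Q7 u hu' := Subtype.ext (Units.ext (hr.trans (reflect_coe Q7 u hu').symm))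
    show extend r ∈ W8
    rw [e, extend_reflect]
    exact Subgroup.subset_closure ⟨baseM *ᵥ u, hu, reflect_coe Q8 _ _⟩
  exact hle hg

/-- A reflection in the group has norm one. -/
theorem norm_of_mem {w : V} (hw : Q8 w ≠ 0) (h : reflect Q8 w hw ∈ W8) : Q8 w = 1 := by
  by_contra hne
  have hd : Q8 w = -1 := (RefThree.zmod_three_cases 1 one_ne_zero _ hw).resolve_left hne
  have hnc : (-1 : ZMod 3) ≠ 0 := neg_ne_zero.2 one_ne_zero
  obtain ⟨N, hN⟩ : ∃ N, N = W8 := ⟨_, rfl⟩
  have hidx := index_two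
  rw [← hN] at h hidx
  have hgenc : ∀ v (hv : Q8 v = 1), reflect Q8 v (RefThree.nz Q8 one_ne_zero hv) ∈ N := fun v hv =>
    hN ▸ Subgroup.subset_closure ⟨v, hv, reflect_coe Q8 v _⟩
  have hall : ∀ v (hv : Q8 v = -1), reflect Q8 v (RefThree.nz Q8 hnc hv) ∈ N := by
    intro v hv
    have := RefThree.const_of_orth Q8 nondeg hnc (by norm_num)
      (fun p hp => (reflect Q8 p (RefThree.nz Q8 hnc hp) ∈ N : Prop)) (fun p q hp hq hpq => propext ?_) hd hv
    · exact (eq_iff_iff.1 this).1 h
    · have h1 : reflect Q8 p (RefThree.nz Q8 hnc hp) * reflect Q8 q (RefThree.nz Q8 hnc hq) ∈ N := by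
        rw [RefThree.reflect_pair Q8 hnc hp hq hpq]
        exact mul_mem (hgenc _ ((RefThree.sum_diff Q8 hp hq hpq).1.trans (neg_neg 1)))
          (hgenc _ ((RefThree.sum_diff Q8 hp hq hpq).2.trans (neg_neg 1)))
      exact ⟨fun hp' => (Subgroup.mul_mem_cancel_left N hp').1 h1,
        fun hq' => (Subgroup.mul_mem_cancel_right N hq').1 h1⟩
  have htop : N = ⊤ := by
    rw [eq_top_iff, ← isometryGroup_closure_reflect Q8 (polarNondeg_of_nondegenerate nondeg) (.inl (by simp)),
      Subgroup.closure_le]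
    rintro r ⟨v, hv, hr⟩
    have hr' : r = reflect Q8 v hv := Subtype.ext (Units.ext (hr.trans (reflect_coe Q8 v _).symm))
    subst hr'
    rcases RefThree.zmod_three_cases 1 one_ne_zero _ hv with e | e
    · exact hgenc v e
    · exact hall v e
  rw [htop, Subgroup.index_top] at hidx
  exact absurd hidx (by norm_num)

/-- An element of the group fixing the vector is the extension of one of the hyperplane's group. -/
theorem exists_extend {g : isometryGroup (ZMod 3) ⇑Q8} (hg : g ∈ W8) (hv : isoApply g vv = vv) :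
    ∃ h ∈ W7, extend h = g := by
  have hb : ∀ z : U, baseM *ᵥ (projM *ᵥ isoApply g (baseM *ᵥ z)) = isoApply g (baseM *ᵥ z) := by
    intro z
    have h0 : coef (isoApply g (baseM *ᵥ z)) = 0 := by
      have e := coef_eq (isoApply g (baseM *ᵥ z))
      nth_rewrite 1 [← hv] at e
      rw [iso_polar, base_orth] at e
      exact (mul_eq_zero.1 e.symm).resolve_left (by decide)
    conv_rhs => rw [decomp (isoApply g (baseM *ᵥ z)), h0, zero_smul, add_zero]
  let h : isometryGroup (ZMod 3) ⇑Q7 :=
    isoMk (projM.mulVecLin ∘ₗ ((g : GL (Fin 8) (ZMod 3)) : Matrix (Fin 8) (Fin 8) (ZMod 3)).mulVecLin ∘ₗ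
      baseM.mulVecLin)
    (fun z w e => by
      simp only [LinearMap.comp_apply, mulVecLin_apply] at e
      have e1 := congrArg (baseM *ᵥ ·) e
      simp only [hb] at e1
      have e2 := congrArg (isoApply g⁻¹) e1
      simp only [isoApply_inv_apply] at e2
      rw [← proj_base_apply z, e2, proj_base_apply])
    fun z => by
      simp only [LinearMap.comp_apply, mulVecLin_apply]
      rw [Q7_apply, hb, Q7_apply]
      exact isoApply_Q g _
  have hh : extend h = g := iso_ext fun x => by
    rw [extend_apply]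
    conv_rhs => rw [decomp x, isoApply, mulVec_add, mulVec_smul, show _ *ᵥ vv = vv from hv]
    rw [show isoApply h (projM *ᵥ x) = projM *ᵥ isoApply g (baseM *ᵥ (projM *ᵥ x)) from
      isoMk_apply _ _ _ _, hb]
  refine ⟨h, ?_, hh⟩
  by_contra hn
  let u : U := Pi.single 0 1
  have hu : Q7 u = -1 := by
    rw [Q7_apply, mulVec_single_one, Q8_apply]
    decide +kernel
  have hu0 : Q7 u ≠ 0 := by rw [hu]; exact neg_ne_zero.2 one_ne_zero
  have hr : reflect Q7 u hu0 ∈ W7 ∨ h * reflect Q7 u hu0 ∈ W7 := by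
    have h2 := RefThree.index_two Q7 nondeg7 one_ne_zero (by norm_num : 5 ≤ 7)
    by_cases hr : reflect Q7 u hu0 ∈ W7
    · exact Or.inl hr
    · exact Or.inr ((Subgroup.mul_mem_iff_of_index_two h2).2 ⟨fun a => absurd a hn, fun a => absurd a hr⟩)
  have hm : extend (reflect Q7 u hu0) ∈ W8 := by
    rcases hr with hr | hr
    · exact extend_mem hr
    · have := extend_mem hr
      rw [show extend (h * reflect Q7 u hu0) = extend h * extend (reflect Q7 u hu0) from
        map_mul extendHom _ _, hh] at this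
      exact (Subgroup.mul_mem_cancel_left W8 hg).1 this
  rw [extend_reflect] at hm
  have := norm_of_mem _ hm
  rw [← Q7_apply, hu] at this
  exact absurd this (by decide)

/-- The stabiliser of the vector. -/
noncomputable def stab : Subgroup (isometryGroup (ZMod 3) ⇑Q8) where
  carrier := {g | g ∈ W8 ∧ isoApply g vv = vv}
  one_mem' := ⟨one_mem _, isoApply_one vv⟩
  mul_mem' {a b} ha hb := ⟨mul_mem ha.1 hb.1, by rw [isoApply_mul, hb.2, ha.2]⟩
  inv_mem' {a} ha := ⟨inv_mem ha.1, by conv_lhs => rw [← ha.2]; rw [isoApply_inv_apply]⟩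

/-- The hyperplane's group is the stabiliser. -/
theorem stab_equiv : Nonempty (↥W7 ≃* ↥stab) := by
  let f : ↥W7 →* ↥stab := (extendHom.comp W7.subtype).codRestrict stab fun g => ⟨extend_mem g.2, extend_vv g.1⟩
  refine ⟨MulEquiv.ofBijective f ⟨fun a b e => Subtype.ext (extendHom_injective (congrArg Subtype.val e)), ?_⟩⟩
  rintro ⟨g, hg, hv⟩
  obtain ⟨h, hh, e⟩ := exists_extend hg hv
  exact ⟨⟨h, hh⟩, Subtype.ext e⟩

/-- A group with a centre of order two split off by a homomorphism. -/
theorem prod_equiv {W P : Type*} [Group W] [Group P] (δ : W →* Multiplicative (ZMod 2))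
    (φ : W ⧸ Subgroup.center W ≃* P) (ε : W) (hεZ : ε ∈ Subgroup.center W)
    (hZ : ∀ z ∈ Subgroup.center W, z = 1 ∨ z = ε) (hδ : δ ε ≠ 1) :
    Nonempty (W ≃* Multiplicative (ZMod 2) × P) := by
  have two : ∀ a b c : Multiplicative (ZMod 2), a ≠ 1 → b ≠ c → a * b = c := by decide
  refine ⟨MulEquiv.ofBijective (δ.prod (φ.toMonoidHom.comp (QuotientGroup.mk' _)))
    ⟨(injective_iff_map_eq_one _).2 fun g hg => ?_, fun p => ?_⟩⟩
  · have h1 : δ g = 1 := congrArg Prod.fst hg
    have h2 : φ (QuotientGroup.mk g) = 1 := congrArg Prod.snd hg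
    rw [MulEquiv.map_eq_one_iff] at h2
    exact (hZ g ((QuotientGroup.eq_one_iff g).1 h2)).resolve_right fun e => hδ (e ▸ h1)
  · obtain ⟨g, hg⟩ := QuotientGroup.mk'_surjective _ (φ.symm p.2)
    by_cases hs : δ g = p.1
    · refine ⟨g, Prod.ext hs ?_⟩
      show φ (QuotientGroup.mk' _ g) = p.2
      rw [hg, MulEquiv.apply_symm_apply]
    · refine ⟨ε * g, Prod.ext ?_ ?_⟩
      · show δ (ε * g) = p.1
        rw [map_mul]
        exact two _ _ _ hδ hs
      · show φ (QuotientGroup.mk' _ (ε * g)) = p.2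
        rw [map_mul, show QuotientGroup.mk' (Subgroup.center W) ε = 1 from (QuotientGroup.eq_one_iff _).2 hεZ,
          one_mul, hg, MulEquiv.apply_symm_apply]

theorem neg_ne_one_units : (-1 : (ZMod 3)ˣ) ≠ 1 := by decide

/-- The group of the hyperplane. -/
theorem W7_equiv : Nonempty (↥W7 ≃* Multiplicative (ZMod 2) × POmega (ZMod 3) (quadFormOdd 3 (ZMod 3))) := by
  classical
  have hdet : polarGramDet (⇑Q7) = -(1 : ZMod 3) := det7
  obtain ⟨φ⟩ := RefSeven.quotient_equiv Q7 nondeg7 one_ne_zero hdet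
  obtain ⟨ε, hε, hεZ, hZ⟩ := RefSeven.center_cases nondeg7 one_ne_zero hdet
  haveI : Fact (Nat.Prime 2) := ⟨Nat.prime_two⟩
  haveI : Fact (Nat.Prime 3) := ⟨Nat.prime_three⟩
  let s : (ZMod 3)ˣ ≃* Multiplicative (ZMod 2) := mulEquivOfPrimeCardEq (p := 2)
    (by rw [Nat.card_eq_fintype_card, ZMod.card_units]) (by simp [Nat.card_eq_fintype_card])
  refine prod_equiv (s.toMonoidHom.comp
    ((Matrix.GeneralLinearGroup.det).comp ((isometryGroup (ZMod 3) ⇑Q7).subtype.comp W7.subtype))) φ ε hεZ hZ
    fun h => neg_ne_one_units ?_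
  rw [MonoidHom.comp_apply, MulEquiv.coe_toMonoidHom, MulEquiv.map_eq_one_iff] at h
  refine Units.ext ?_
  have h2 := RefSeven.isoDet_neg hε
  simp only [RefSeven.isoDet] at h2
  have h3 := congrArg Units.val h
  simp only [MonoidHom.coe_comp, Function.comp_apply, Subgroup.coe_subtype,
    Matrix.GeneralLinearGroup.val_det_apply] at h3
  exact h2.symm.trans h3

end CfsgLib.FischerPair.Plus8
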